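import Mathlib.RingTheory.DividedPowers.DPMorphism
import Mathlib.RingTheory.AdicCompletion.Algebra
import Mathlib.RingTheory.Ideal.Quotient.Operations

/-! Extension of divided powers to the p-adic completion. -/

set_option autoImplicit false

universe u

namespace Groth.Agent.DPow29

variable {A : Type u} [CommRing A] {I : Ideal A} (γ : DividedPowers I) (p t : ℕ)
  (ht : Ideal.span {(p : A)} ^ t ≤ I)

local notation "Ip" => Ideal.span {(p : A)}

/-- The projection of the completion to A ⧸ I. -/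
noncomputable def projI : AdicCompletion Ip A →+* A ⧸ I :=
  (Ideal.Quotient.factor ht).comp (AdicCompletion.evalₐ Ip t).toRingHom

theorem rep_congr {m n : ℕ} (hmn : m ≤ n) (x : AdicCompletion Ip A) {a : A}
    (ha : AdicCompletion.evalₐ Ip n x = Ideal.Quotient.mk _ a) :
    AdicCompletion.evalₐ Ip m x = Ideal.Quotient.mk _ a := by
  obtain ⟨f, rfl⟩ := AdicCompletion.mk_surjective Ip A x
  rw [AdicCompletion.evalₐ_mk, Ideal.Quotient.eq] at ha ⊢
  have h := f.property hmn
  rw [SModEq.sub_mem, smul_eq_mul, Ideal.mul_top] at h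
  have := Ideal.add_mem _ h (Ideal.pow_le_pow_right hmn ha)
  rwa [sub_add_sub_cancel] at this

theorem exists_rep (x : AdicCompletion Ip A) (n : ℕ) :
    ∃ a, AdicCompletion.evalₐ Ip n x = Ideal.Quotient.mk _ a := by
  obtain ⟨a, ha⟩ := Ideal.Quotient.mk_surjective (AdicCompletion.evalₐ Ip n x)
  exact ⟨a, ha.symm⟩

theorem mem_ker_iff {n : ℕ} (hn : t ≤ n) (x : AdicCompletion Ip A) {a : A}
    (ha : AdicCompletion.evalₐ Ip n x = Ideal.Quotient.mk _ a) :
    x ∈ RingHom.ker (projI p t ht) ↔ a ∈ I := by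
  rw [RingHom.mem_ker, projI, RingHom.comp_apply, AlgHom.toRingHom_eq_coe, AlgHom.coe_toRingHom,
    rep_congr p hn x ha, Ideal.Quotient.factor_mk, Ideal.Quotient.eq_zero_iff_mem]

include ht in
theorem dpow_congr (m s : ℕ) {a b : A} (hb : b ∈ I) (hab : a - b ∈ Ip ^ (s + t)) :
    γ.dpow m a - γ.dpow m b ∈ Ip ^ s := by
  obtain ⟨e, rfl⟩ : ∃ e, a = b + e := ⟨a - b, by ring⟩
  rw [add_sub_cancel_left, Ideal.span_singleton_pow, Ideal.mem_span_singleton] at hab
  obtain ⟨c, rfl⟩ := hab
  have hc : (p : A) ^ t * c ∈ I :=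
    ht (by rw [Ideal.span_singleton_pow]; exact Ideal.mem_span_singleton.mpr (dvd_mul_right _ _))
  have e2 : (p : A) ^ (s + t) * c = (p : A) ^ s * ((p : A) ^ t * c) := by ring
  rw [e2, γ.dpow_add' hb (Ideal.mul_mem_left _ _ hc), Finset.sum_range_succ, Nat.sub_self,
    γ.dpow_zero (Ideal.mul_mem_left _ _ hc), mul_one, add_sub_cancel_right]
  refine Ideal.sum_mem _ fun i hi => ?_
  rw [Finset.mem_range] at hi
  rw [γ.dpow_mul hc]
  refine Ideal.mul_mem_left _ _ (Ideal.mul_mem_right _ _ ?_)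
  exact Ideal.pow_mem_of_mem _ (Ideal.pow_mem_pow (Ideal.mem_span_singleton_self _) s) _ (by omega)

/-- A chosen Cauchy sequence representing an element. -/
noncomputable def seq (x : AdicCompletion Ip A) : AdicCompletion.AdicCauchySequence Ip A :=
  Function.surjInv (AdicCompletion.mk_surjective Ip A) x

theorem eval_seq (x : AdicCompletion Ip A) (n : ℕ) :
    AdicCompletion.evalₐ Ip n x = Ideal.Quotient.mk _ ((seq p x).val n) := by
  conv_lhs => rw [← Function.surjInv_eq (AdicCompletion.mk_surjective Ip A) x]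
  exact AdicCompletion.evalₐ_mk _ _ _

theorem seq_mem {x : AdicCompletion Ip A} (hx : x ∈ RingHom.ker (projI p t ht)) {n : ℕ} (hn : t ≤ n) :
    (seq p x).val n ∈ I :=
  (mem_ker_iff p t ht hn x (eval_seq p x n)).mp hx

/-- The sequence of divided powers. -/
noncomputable def dseq {x : AdicCompletion Ip A} (hx : x ∈ RingHom.ker (projI p t ht)) (m : ℕ) :
    AdicCompletion.AdicCauchySequence Ip A :=
  ⟨fun s => γ.dpow m ((seq p x).val (s + t)), fun {i j} hij => by
    rw [SModEq.sub_mem, smul_eq_mul, Ideal.mul_top]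
    refine dpow_congr γ p t ht m i (seq_mem p t ht hx (Nat.le_add_left t j)) ?_
    rw [← Ideal.Quotient.eq]
    exact (eval_seq p x (i + t)).symm.trans
      (rep_congr p (Nat.add_le_add_right hij t) x (eval_seq p x (j + t)))⟩

open scoped Classical in
/-- The divided powers on the completion. -/
noncomputable def dpowHat (m : ℕ) (x : AdicCompletion Ip A) : AdicCompletion Ip A :=
  if hx : x ∈ RingHom.ker (projI p t ht) then AdicCompletion.mk Ip A (dseq γ p t ht hx m) else 0

theorem dpowHat_spec {x : AdicCompletion Ip A} (hx : x ∈ RingHom.ker (projI p t ht)) (m s : ℕ)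
    {n : ℕ} (hn : s + t ≤ n) {a : A} (ha : AdicCompletion.evalₐ Ip n x = Ideal.Quotient.mk _ a) :
    AdicCompletion.evalₐ Ip s (dpowHat γ p t ht m x) = Ideal.Quotient.mk _ (γ.dpow m a) := by
  rw [dpowHat, dif_pos hx, AdicCompletion.evalₐ_mk, Ideal.Quotient.eq]
  refine dpow_congr γ p t ht m s ((mem_ker_iff p t ht (by omega) x ha).mp hx) ?_
  rw [← Ideal.Quotient.eq]
  exact (eval_seq p x (s + t)).symm.trans (rep_congr p hn x ha)

/-- The divided power structure on the completion. -/
noncomputable def dividedPowersHat : DividedPowers (RingHom.ker (projI p t ht)) where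
  dpow := dpowHat γ p t ht
  dpow_null hx := dif_neg hx
  dpow_zero {x} hx := by
    refine AdicCompletion.ext_evalₐ fun s => ?_
    obtain ⟨a, ha⟩ := exists_rep p x (s + t)
    rw [dpowHat_spec γ p t ht hx 0 s le_rfl ha,
      γ.dpow_zero ((mem_ker_iff p t ht (Nat.le_add_left t s) x ha).mp hx), map_one, map_one]
  dpow_one {x} hx := by
    refine AdicCompletion.ext_evalₐ fun s => ?_
    obtain ⟨a, ha⟩ := exists_rep p x (s + t)
    rw [dpowHat_spec γ p t ht hx 1 s le_rfl ha,
      γ.dpow_one ((mem_ker_iff p t ht (Nat.le_add_left t s) x ha).mp hx),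
      rep_congr p (Nat.le_add_right s t) x ha]
  dpow_mem {n x} hn hx := by
    obtain ⟨a, ha⟩ := exists_rep p x (t + t)
    exact (mem_ker_iff p t ht le_rfl _ (dpowHat_spec γ p t ht hx n t le_rfl ha)).mpr
      (γ.dpow_mem hn ((mem_ker_iff p t ht (Nat.le_add_left t t) x ha).mp hx))
  dpow_add {n x y} hx hy := by
    refine AdicCompletion.ext_evalₐ fun s => ?_
    obtain ⟨a, ha⟩ := exists_rep p x (s + t)
    obtain ⟨b, hb⟩ := exists_rep p y (s + t)
    have hab : AdicCompletion.evalₐ Ip (s + t) (x + y) = Ideal.Quotient.mk _ (a + b) := by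
      rw [map_add, ha, hb, map_add]
    rw [dpowHat_spec γ p t ht (Ideal.add_mem _ hx hy) n s le_rfl hab,
      γ.dpow_add ((mem_ker_iff p t ht (Nat.le_add_left t s) x ha).mp hx)
        ((mem_ker_iff p t ht (Nat.le_add_left t s) y hb).mp hy), map_sum, map_sum]
    refine Finset.sum_congr rfl fun k _ => ?_
    rw [map_mul, map_mul, dpowHat_spec γ p t ht hx k.1 s le_rfl ha,
      dpowHat_spec γ p t ht hy k.2 s le_rfl hb]
  dpow_mul {n y x} hx := by
    refine AdicCompletion.ext_evalₐ fun s => ?_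
    obtain ⟨a, ha⟩ := exists_rep p x (s + t)
    obtain ⟨b, hb⟩ := exists_rep p y (s + t)
    have hab : AdicCompletion.evalₐ Ip (s + t) (y * x) = Ideal.Quotient.mk _ (b * a) := by
      rw [map_mul, ha, hb, map_mul]
    rw [dpowHat_spec γ p t ht (Ideal.mul_mem_left _ _ hx) n s le_rfl hab,
      γ.dpow_mul ((mem_ker_iff p t ht (Nat.le_add_left t s) x ha).mp hx), map_mul, map_mul, map_pow,
      map_pow, rep_congr p (Nat.le_add_right s t) y hb, dpowHat_spec γ p t ht hx n s le_rfl ha]
  mul_dpow {m n x} hx := by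
    refine AdicCompletion.ext_evalₐ fun s => ?_
    obtain ⟨a, ha⟩ := exists_rep p x (s + t)
    rw [map_mul, map_mul, map_natCast, dpowHat_spec γ p t ht hx m s le_rfl ha,
      dpowHat_spec γ p t ht hx n s le_rfl ha, dpowHat_spec γ p t ht hx (m + n) s le_rfl ha, ← map_mul,
      γ.mul_dpow ((mem_ker_iff p t ht (Nat.le_add_left t s) x ha).mp hx), map_mul, map_natCast]
  dpow_comp {m n x} hn hx := by
    refine AdicCompletion.ext_evalₐ fun s => ?_
    obtain ⟨a, ha⟩ := exists_rep p x (s + t + t)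
    have h1 := dpowHat_spec γ p t ht hx n (s + t) le_rfl ha
    have haI := (mem_ker_iff p t ht (by omega) x ha).mp hx
    have hnx : dpowHat γ p t ht n x ∈ RingHom.ker (projI p t ht) :=
      (mem_ker_iff p t ht (Nat.le_add_left t s) _ h1).mpr (γ.dpow_mem hn haI)
    rw [dpowHat_spec γ p t ht hnx m s le_rfl h1, γ.dpow_comp hn haI, map_mul, map_natCast, map_mul,
      map_natCast, dpowHat_spec γ p t ht hx (m * n) s (by omega) ha]

theorem isDPMorphism_hat :
    γ.IsDPMorphism (dividedPowersHat γ p t ht) (algebraMap A (AdicCompletion Ip A)) := by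
  have he : ∀ (n : ℕ) (a : A), AdicCompletion.evalₐ Ip n (algebraMap A _ a) = Ideal.Quotient.mk _ a :=
    fun n a => AlgHom.commutes _ a
  have hmem : ∀ a ∈ I, algebraMap A (AdicCompletion Ip A) a ∈ RingHom.ker (projI p t ht) :=
    fun a ha => (mem_ker_iff p t ht le_rfl _ (he t a)).mpr ha
  refine ⟨Ideal.map_le_iff_le_comap.mpr hmem, fun {n} a ha => AdicCompletion.ext_evalₐ fun s => ?_⟩
  rw [he]
  exact dpowHat_spec γ p t ht (hmem a ha) n s le_rfl (he (s + t) a)

theorem projI_surjective : Function.Surjective (projI p t ht) :=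
  (Ideal.Quotient.factor_surjective ht).comp (AdicCompletion.surjective_evalₐ Ip t)

end Groth.Agent.DPow29
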