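import Groth.Agent.DPow29.Poly
import Groth.Agent.S6501
import Mathlib.RingTheory.DividedPowers.SubDPIdeal
import Mathlib.RingTheory.MvPolynomial.Basic
import Mathlib.RingTheory.Polynomial.Basic
import Mathlib.Data.Nat.Choose.Cast

/-! Divided powers on the augmentation ideal of a divided power polynomial algebra. -/

set_option autoImplicit false

universe u v w z

namespace Groth.Agent.DPow29

variable {Λ : Type z} {R : Type u} [CommRing R] {P : Type v} [CommRing P] [Algebra R P]
  (x : Λ → ℕ → P) (hx0 : ∀ l, x l 0 = 1)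
  (hxmul : ∀ l n m, x l n * x l m = ((n + m).choose n : P) * x l (n + m))
  (b : Module.Basis (Λ →₀ ℕ) R P) (hb : ∀ e : Λ →₀ ℕ, b e = e.prod (fun l k => x l k))

include hx0 hxmul in
theorem factorial_mul_gen (l : Λ) (n : ℕ) : (n.factorial : P) * x l n = x l 1 ^ n := by
  induction n with
  | zero => simp [hx0]
  | succ n ih =>
    rw [pow_succ, ← ih, mul_assoc, hxmul, Nat.choose_succ_self_right, Nat.factorial_succ,
      Nat.cast_mul, Nat.cast_succ]
    ring

include hb hx0 in
theorem basis_mem_gens {e : Λ →₀ ℕ} (he : e ≠ 0) :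
    b e ∈ Ideal.span {y : P | ∃ (l : Λ) (n : ℕ), 1 ≤ n ∧ y = x l n} := by
  obtain ⟨l, hl⟩ := Finsupp.support_nonempty_iff.mpr he
  obtain ⟨c, hc⟩ := Finset.dvd_prod_of_mem (fun l => x l (e l)) hl
  rw [hb, Finsupp.prod, hc]
  exact Ideal.mul_mem_right _ _ (mem_gens x l (Nat.one_le_iff_ne_zero.mpr (Finsupp.mem_support_iff.mp hl)))

include hx0 hxmul in
theorem exists_dividedPowers_of_isAddTorsionFree [IsAddTorsionFree P] :
    ∃ γ : DividedPowers (Ideal.span {y : P | ∃ (l : Λ) (n : ℕ), 1 ≤ n ∧ y = x l n}),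
      ∀ l n, γ.dpow n (x l 1) = x l n := by
  obtain ⟨γ⟩ := (Agent.S6501.result (Ideal.span {y : P | ∃ (l : Λ) (n : ℕ), 1 ≤ n ∧ y = x l n})).2.mpr
    ⟨_, rfl, by
      rintro _ ⟨l, n, hn, rfl⟩ m hm
      refine Ideal.mem_span_singleton_mul.mpr ⟨(Nat.uniformBell m n : P) * x l (m * n),
        Ideal.mul_mem_left _ _ (mem_gens x l (Nat.one_le_iff_ne_zero.mpr (by positivity))), ?_⟩
      have h := factorial_mul_gen x hx0 hxmul l
      refine IsAddTorsionFree.nsmul_right_injective
        (pow_ne_zero m n.factorial_ne_zero) ?_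
      show (n.factorial ^ m) • _ = (n.factorial ^ m) • _
      rw [nsmul_eq_mul, nsmul_eq_mul, Nat.cast_pow, ← mul_pow, h, ← pow_mul, mul_comm n m,
        ← h (m * n), ← Nat.uniformBell_mul_eq m (show n ≠ 0 by omega)]
      push_cast
      ring⟩
  refine ⟨γ, fun l n => IsAddTorsionFree.nsmul_right_injective n.factorial_ne_zero ?_⟩
  show n.factorial • _ = n.factorial • _
  rw [nsmul_eq_mul, nsmul_eq_mul, γ.factorial_mul_dpow_eq_pow (mem_gens x l le_rfl),
    factorial_mul_gen x hx0 hxmul]

variable (Λ R) in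
theorem exists_model :
    ∃ (T : Type (max u z)) (_ : CommRing T) (_ : IsAddTorsionFree T)
      (_ : Algebra (MvPolynomial R ℤ) T) (xT : Λ → ℕ → T)
      (bT : Module.Basis (Λ →₀ ℕ) (MvPolynomial R ℤ) T),
      (∀ l, xT l 0 = 1) ∧
      (∀ l n m, xT l n * xT l m = ((n + m).choose n : T) * xT l (n + m)) ∧
      ∀ e : Λ →₀ ℕ, bT e = e.prod (fun l k => xT l k) := by
  classical
  let K := MvPolynomial R ℚ
  let ι : MvPolynomial R ℤ →+* MvPolynomial Λ K :=
    MvPolynomial.C.comp (MvPolynomial.map (Int.castRingHom ℚ))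
  letI : Algebra (MvPolynomial R ℤ) (MvPolynomial Λ K) := ι.toAlgebra
  let a : ℕ → K := fun n => MvPolynomial.C ((n.factorial : ℚ)⁻¹)
  let y : Λ → ℕ → MvPolynomial Λ K := fun l n => MvPolynomial.monomial (Finsupp.single l n) (a n)
  have hy0 : ∀ l, y l 0 = 1 := fun l => by simp [y, a]
  have hymul : ∀ l n m, y l n * y l m = ((n + m).choose n : MvPolynomial Λ K) * y l (n + m) := by
    intro l n m
    simp only [y, MvPolynomial.monomial_mul, ← Finsupp.single_add, ← map_natCast MvPolynomial.C,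
      MvPolynomial.C_mul_monomial]
    congr 1
    simp only [a, ← map_mul, ← map_natCast (MvPolynomial.C : ℚ →+* K)]
    congr 1
    rw [Nat.cast_choose ℚ (Nat.le_add_right n m), Nat.add_sub_cancel_left]
    field_simp
  let v : (Λ →₀ ℕ) → MvPolynomial Λ K := fun e => e.prod fun l k => y l k
  have hv : ∀ e, ∃ c : K, c ≠ 0 ∧ v e = MvPolynomial.monomial e c := fun e => by
    refine ⟨∏ l ∈ e.support, a (e l), Finset.prod_ne_zero_iff.mpr fun l _ => ?_, ?_⟩
    · simp [a, Nat.factorial_ne_zero]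
    · simp only [v, Finsupp.prod, y]
      rw [← MvPolynomial.monomial_sum_prod]
      congr 2
      exact Finsupp.sum_single e
  choose c hc hvc using hv
  have hli : LinearIndependent (MvPolynomial R ℤ) v := by
    rw [linearIndependent_iff']
    intro s g hg e he
    have h := congrArg (MvPolynomial.coeff e) hg
    simp only [MvPolynomial.coeff_sum, Algebra.smul_def, hvc, RingHom.algebraMap_toAlgebra, ι,
      RingHom.comp_apply, MvPolynomial.C_mul_monomial, MvPolynomial.coeff_monomial,
      Finset.sum_ite_eq', if_pos he, MvPolynomial.coeff_zero, mul_eq_zero, hc, or_false] at h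
    exact (MvPolynomial.map_injective _ Int.cast_injective) (by rw [h, map_zero])
  let T : Subalgebra (MvPolynomial R ℤ) (MvPolynomial Λ K) :=
    (Submodule.span (MvPolynomial R ℤ) (Set.range v)).toSubalgebra
      (Submodule.subset_span ⟨0, by simp [v]⟩) (by
        intro p q hp hq
        have hpq := Submodule.mul_mem_mul hp hq
        rw [Submodule.span_mul_span] at hpq
        refine Submodule.span_le.mpr ?_ hpq
        rintro _ ⟨_, ⟨e, rfl⟩, _, ⟨f, rfl⟩, rfl⟩
        show v e * v f ∈ _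
        have h1 : v e * v f = mchoose e f • v (e + f) := by
          rw [nsmul_eq_mul]; exact monomial_mul y hy0 hymul e f
        rw [h1]
        exact nsmul_mem (Submodule.subset_span (Set.mem_range_self (e + f))) _)
  have hyT : ∀ l n, y l n ∈ T := fun l n => by
    have : y l n ∈ Set.range v :=
      ⟨Finsupp.single l n, Finsupp.prod_single_index (h := fun l k => y l k) (hy0 l)⟩
    exact Submodule.subset_span this
  haveI : IsAddTorsionFree T := Function.Injective.isAddTorsionFree T.val.toRingHom.toAddMonoidHom Subtype.val_injective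
  refine ⟨T, inferInstance, inferInstance, inferInstance, fun l n => ⟨y l n, hyT l n⟩,
    (Module.Basis.span hli).map ((LinearEquiv.ofEq _ (Subalgebra.toSubmodule T) (by simp [T])).trans
      (Subalgebra.toSubmoduleEquiv T)), fun l => Subtype.ext (hy0 l), fun l n m => Subtype.ext ?_, fun e => Subtype.ext ?_⟩
  · simpa using hymul l n m
  · rw [Module.Basis.map_apply]
    show ((Module.Basis.span hli) e : MvPolynomial Λ K) = _
    rw [Module.Basis.span_apply, Finsupp.prod, SubmonoidClass.coe_finsetProd]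
    rfl

include hx0 hxmul hb in
theorem existsUnique_dividedPowers :
    ∃! γ : DividedPowers (Ideal.span {y : P | ∃ (l : Λ) (n : ℕ), 1 ≤ n ∧ y = x l n}),
      ∀ l n, γ.dpow n (x l 1) = x l n := by
  classical
  obtain ⟨T, _, _, _, xT, bT, hT0, hTmul, hbT⟩ := exists_model Λ R
  obtain ⟨γT, hγT⟩ := exists_dividedPowers_of_isAddTorsionFree xT hT0 hTmul
  let σ : MvPolynomial R ℤ →+* R := MvPolynomial.eval₂Hom (Int.castRingHom R) id
  letI : Algebra (MvPolynomial R ℤ) P := ((algebraMap R P).comp σ).toAlgebra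
  have hsm : ∀ (c : MvPolynomial R ℤ) (q : P), c • q = σ c • q := fun c q => by
    rw [Algebra.smul_def, Algebra.smul_def]; rfl
  obtain ⟨π, hπ⟩ := exists_algHom xT hT0 hTmul bT hbT x hx0 hxmul
  have hπb : ∀ e, π (bT e) = b e := fun e => by
    rw [hb, hbT, Finsupp.prod, map_prod]
    exact Finset.prod_congr rfl fun l _ => hπ _ _
  have hsurj : Function.Surjective π := by
    intro p
    have hp : p ∈ Submodule.span R (Set.range b) := b.mem_span p
    induction hp using Submodule.span_induction with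
    | mem p hp => obtain ⟨e, rfl⟩ := hp; exact ⟨bT e, hπb e⟩
    | zero => exact ⟨0, map_zero π⟩
    | add p q _ _ h1 h2 =>
      obtain ⟨p, rfl⟩ := h1
      obtain ⟨q, rfl⟩ := h2
      exact ⟨p + q, map_add π p q⟩
    | smul r p _ h1 =>
      obtain ⟨p, rfl⟩ := h1
      exact ⟨(MvPolynomial.X r : MvPolynomial R ℤ) • p, by
        rw [map_smul, hsm]; simp [σ]⟩
  have hrepr : ∀ q e, b.repr (π q) e = σ (bT.repr q e) := by
    intro q e
    have hq : q ∈ Submodule.span (MvPolynomial R ℤ) (Set.range bT) := bT.mem_span q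
    induction hq using Submodule.span_induction with
    | mem q hq => obtain ⟨f, rfl⟩ := hq; simp [hπb, Finsupp.single_apply, apply_ite σ]
    | zero => simp
    | add p q _ _ h1 h2 => simp [h1, h2]
    | smul r p _ h1 => rw [map_smul, hsm, map_smul, map_smul]; simp [h1]
  obtain ⟨aug, haug⟩ := exists_algHom xT hT0 hTmul bT hbT
    (fun _ n => if n = 0 then (1 : MvPolynomial R ℤ) else 0) (fun l => if_pos rfl) (fun l n m => by
      rcases Nat.eq_zero_or_pos n with rfl | hn
      · simp
      · simp [hn.ne', (show n + m ≠ 0 by omega)])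
  have haugb : ∀ q, aug q = bT.repr q 0 := by
    intro q
    have hq : q ∈ Submodule.span (MvPolynomial R ℤ) (Set.range bT) := bT.mem_span q
    induction hq using Submodule.span_induction with
    | mem q hq =>
      obtain ⟨f, rfl⟩ := hq
      rw [bT.repr_self, Finsupp.single_apply]
      split_ifs with hf
      · subst hf; rw [basis_zero xT hT0 bT hbT, map_one]
      · obtain ⟨l, hl⟩ := Finsupp.support_nonempty_iff.mpr hf
        rw [hbT, Finsupp.prod, map_prod]
        exact Finset.prod_eq_zero hl (by rw [haug, if_neg (Finsupp.mem_support_iff.mp hl)])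
    | zero => simp
    | add p q _ _ h1 h2 => simp [h1, h2]
    | smul r p _ h1 => simp [h1]
  have hIker : Ideal.span {y : T | ∃ (l : Λ) (n : ℕ), 1 ≤ n ∧ y = xT l n} ≤ RingHom.ker aug.toRingHom := by
    rw [Ideal.span_le]
    rintro _ ⟨l, n, hn, rfl⟩
    exact (haug l n).trans (if_neg (by omega))
  have hJ : Ideal.span {y : P | ∃ (l : Λ) (n : ℕ), 1 ≤ n ∧ y = x l n} =
      (Ideal.span {y : T | ∃ (l : Λ) (n : ℕ), 1 ≤ n ∧ y = xT l n}).map π.toRingHom := by
    rw [Ideal.map_span]
    congr 1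
    ext q
    constructor
    · rintro ⟨l, n, hn, rfl⟩; exact ⟨xT l n, ⟨l, n, hn, rfl⟩, hπ l n⟩
    · rintro ⟨_, ⟨l, n, hn, rfl⟩, rfl⟩; exact ⟨l, n, hn, hπ l n⟩
  let I := Ideal.span {y : T | ∃ (l : Λ) (n : ℕ), 1 ≤ n ∧ y = xT l n}
  let G : Set T := {q | ∃ (c : MvPolynomial R ℤ) (e : Λ →₀ ℕ), σ c = 0 ∧ e ≠ 0 ∧ q = c • bT e}
  have hGI : G ⊆ I := by
    rintro _ ⟨c, e, -, he, rfl⟩
    exact Submodule.smul_of_tower_mem _ c (basis_mem_gens xT hT0 bT hbT he)
  have hGker : Ideal.span G ≤ RingHom.ker π.toRingHom := by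
    rw [Ideal.span_le]
    rintro _ ⟨c, e, hc, -, rfl⟩
    show π (c • bT e) = 0
    rw [map_smul, hsm, hc, zero_smul]
  have heq : RingHom.ker π.toRingHom ⊓ I = Ideal.span G := by
    refine le_antisymm ?_ (le_inf hGker (Ideal.span_le.mpr hGI))
    rintro q ⟨hq1, hq2⟩
    rw [← bT.linearCombination_repr q, Finsupp.linearCombination_apply]
    refine Submodule.sum_mem _ fun e he => Ideal.subset_span ⟨_, e, ?_, ?_, rfl⟩
    · rw [← hrepr, show π q = 0 from hq1, map_zero, Finsupp.zero_apply]
    · rintro rfl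
      refine Finsupp.mem_support_iff.mp he ?_
      rw [← haugb]
      exact hIker hq2
  have hsub : γT.IsSubDPIdeal (RingHom.ker π.toRingHom ⊓ I) := by
    rw [heq, DividedPowers.span_isSubDPIdeal_iff hGI]
    intro m hm s hs
    rw [← heq]
    obtain ⟨c, e, hc, he, rfl⟩ := hs
    have hI : bT e ∈ I := basis_mem_gens xT hT0 bT hbT he
    rw [Algebra.smul_def, γT.dpow_mul hI]
    refine ⟨?_, Ideal.mul_mem_left _ _ (γT.dpow_mem hm hI)⟩
    show π (algebraMap _ T c ^ m * _) = 0
    rw [map_mul, map_pow, AlgHom.commutes, RingHom.algebraMap_toAlgebra, RingHom.comp_apply, hc,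
      map_zero, zero_pow hm, zero_mul]
  refine ⟨DividedPowers.Quotient.OfSurjective.dividedPowers γT hsurj hJ hsub, fun l n => ?_, ?_⟩
  · rw [← hπ l 1]
    exact (DividedPowers.Quotient.OfSurjective.dpow_apply γT hsurj hJ hsub (mem_gens xT l le_rfl)).trans
      (by rw [hγT]; exact hπ l n)
  · intro γ' hγ'
    refine DividedPowers.dpow_eq_from_gens _ _ rfl ?_
    rintro m _ ⟨l, n, hn, rfl⟩
    have key : ∀ δ : DividedPowers (Ideal.span {y : P | ∃ (l : Λ) (n : ℕ), 1 ≤ n ∧ y = x l n}),
        (∀ l n, δ.dpow n (x l 1) = x l n) →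
        δ.dpow m (x l n) = (Nat.uniformBell m n : P) * x l (m * n) := fun δ hδ => by
      rw [← hδ l n, δ.dpow_comp (by omega) (mem_gens x l le_rfl), hδ]
    rw [key γ' hγ', key _ fun l n => ?_]
    rw [← hπ l 1]
    exact (DividedPowers.Quotient.OfSurjective.dpow_apply γT hsurj hJ hsub (mem_gens xT l le_rfl)).trans
      (by rw [hγT]; exact hπ l n)

end Groth.Agent.DPow29
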