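import Mathlib.RingTheory.DividedPowers.DPMorphism
import Mathlib.Algebra.TrivSqZeroExt.Basic
import Mathlib.Algebra.BigOperators.NatAntidiagonal
import Mathlib.Tactic.LinearCombination

/-! Divided powers on the dual numbers over a divided power ring. -/

set_option autoImplicit false

universe u

open TrivSqZeroExt Finset

namespace Groth.Agent.DPow29

variable {P : Type u} [CommRing P] {J : Ideal P} (δ : DividedPowers J)

/-- The preimage of the ideal in the dual numbers. -/
def dualIdeal (J : Ideal P) : Ideal (TrivSqZeroExt P P) :=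
  J.comap (fstHom P P P).toRingHom

theorem mem_dualIdeal {x : TrivSqZeroExt P P} : x ∈ dualIdeal J ↔ x.fst ∈ J := Iff.rfl

open scoped Classical in
/-- Divided powers of a dual number. -/
noncomputable def dualDpow : ℕ → TrivSqZeroExt P P → TrivSqZeroExt P P
  | 0, x => if x.fst ∈ J then 1 else 0
  | n + 1, x => if x.fst ∈ J then inl (δ.dpow (n + 1) x.fst) + inr (δ.dpow n x.fst * x.snd) else 0

theorem dualDpow_zero {x : TrivSqZeroExt P P} (hx : x.fst ∈ J) : dualDpow δ 0 x = 1 := if_pos hx

theorem fst_dualDpow {x : TrivSqZeroExt P P} (hx : x.fst ∈ J) (n : ℕ) :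
    (dualDpow δ n x).fst = δ.dpow n x.fst := by
  rcases n with _ | n
  · rw [dualDpow_zero δ hx, fst_one, δ.dpow_zero hx]
  · simp [dualDpow, hx]

theorem snd_dualDpow_succ {x : TrivSqZeroExt P P} (hx : x.fst ∈ J) (n : ℕ) :
    (dualDpow δ (n + 1) x).snd = δ.dpow n x.fst * x.snd := by
  simp [dualDpow, hx]

theorem snd_mul' (x y : TrivSqZeroExt P P) : (x * y).snd = x.fst * y.snd + y.fst * x.snd := by
  rw [TrivSqZeroExt.snd_mul, op_smul_eq_smul, smul_eq_mul, smul_eq_mul]

theorem mul_dpow_pred {x : P} (hx : x ∈ J) (n : ℕ) :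
    x * δ.dpow n x = (n + 1 : ℕ) * δ.dpow (n + 1) x := by
  conv_lhs => enter [1]; rw [← δ.dpow_one hx]
  rw [δ.mul_dpow hx, add_comm 1 n, Nat.choose_one_right]

/-- The divided power structure on the dual numbers. -/
noncomputable def dualDividedPowers : DividedPowers (dualIdeal J) where
  dpow := dualDpow δ
  dpow_null {n x} hx := by
    have hx' : x.fst ∉ J := hx
    rcases n with _ | n <;> simp [dualDpow, hx']
  dpow_zero {x} hx := dualDpow_zero δ hx
  dpow_one {x} hx := by
    replace hx : x.fst ∈ J := hx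
    refine TrivSqZeroExt.ext ?_ ?_
    · rw [fst_dualDpow δ hx, δ.dpow_one hx]
    · rw [snd_dualDpow_succ δ hx, δ.dpow_zero hx, one_mul]
  dpow_mem {n x} hn hx := by
    replace hx : x.fst ∈ J := hx
    rw [mem_dualIdeal, fst_dualDpow δ hx]
    exact δ.dpow_mem hn hx
  dpow_add {n x y} hx hy := by
    replace hx : x.fst ∈ J := hx
    replace hy : y.fst ∈ J := hy
    have hxy : (x + y).fst ∈ J := by rw [fst_add]; exact J.add_mem hx hy
    refine TrivSqZeroExt.ext ?_ ?_
    · rw [fst_dualDpow δ hxy, fst_sum, fst_add, δ.dpow_add hx hy]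
      exact Finset.sum_congr rfl fun k _ => by rw [fst_mul, fst_dualDpow δ hx, fst_dualDpow δ hy]
    · rw [snd_sum]
      rcases n with _ | n
      · simp [dualDpow_zero δ hx, dualDpow_zero δ hy, dualDpow_zero δ hxy]
      · rw [snd_dualDpow_succ δ hxy, fst_add, snd_add, δ.dpow_add hx hy]
        simp only [snd_mul', fst_dualDpow δ hx, fst_dualDpow δ hy, Finset.sum_add_distrib]
        rw [Finset.Nat.sum_antidiagonal_succ
            (f := fun k => δ.dpow k.2 y.fst * (dualDpow δ k.1 x).snd),
          Finset.Nat.sum_antidiagonal_succ'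
            (f := fun k => δ.dpow k.1 x.fst * (dualDpow δ k.2 y).snd)]
        simp only [snd_dualDpow_succ δ hx, snd_dualDpow_succ δ hy, dualDpow_zero δ hx,
          dualDpow_zero δ hy, snd_one, mul_zero, zero_add]
        rw [Finset.sum_mul, ← Finset.sum_add_distrib]
        exact Finset.sum_congr rfl fun k _ => by ring
  dpow_mul {n a x} hx := by
    replace hx : x.fst ∈ J := hx
    have hax : (a * x).fst ∈ J := by rw [fst_mul]; exact J.mul_mem_left _ hx
    refine TrivSqZeroExt.ext ?_ ?_
    · rw [fst_dualDpow δ hax, fst_mul, δ.dpow_mul hx, fst_mul, fst_pow, fst_dualDpow δ hx]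
    · rcases n with _ | n
      · simp [dualDpow_zero δ hx, dualDpow_zero δ hax]
      · rw [snd_dualDpow_succ δ hax, fst_mul, δ.dpow_mul hx, snd_mul', snd_mul', fst_pow,
          snd_dualDpow_succ δ hx, fst_dualDpow δ hx, TrivSqZeroExt.snd_pow, Nat.pred_eq_sub_one, Nat.add_sub_cancel,
          smul_eq_mul, nsmul_eq_mul, pow_succ]
        have h := congrArg (fun t => a.fst ^ n * a.snd * t) (mul_dpow_pred δ hx n)
        linear_combination h
  mul_dpow {m n x} hx := by
    replace hx : x.fst ∈ J := hx
    refine TrivSqZeroExt.ext ?_ ?_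
    · rw [fst_mul, fst_mul, fst_natCast, fst_dualDpow δ hx, fst_dualDpow δ hx, fst_dualDpow δ hx,
        δ.mul_dpow hx]
    · rw [snd_mul', snd_mul', fst_natCast, snd_natCast, mul_zero, add_zero, fst_dualDpow δ hx,
        fst_dualDpow δ hx]
      rcases m with _ | m <;> rcases n with _ | n
      · simp [dualDpow_zero δ hx]
      · simp [dualDpow_zero δ hx, δ.dpow_zero hx]
      · simp [dualDpow_zero δ hx, δ.dpow_zero hx]
      · rw [show m + 1 + (n + 1) = (m + n + 1) + 1 by omega, snd_dualDpow_succ δ hx,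
          snd_dualDpow_succ δ hx, snd_dualDpow_succ δ hx, ← mul_assoc, ← mul_assoc, ← mul_assoc,
          ← add_mul, δ.mul_dpow hx, δ.mul_dpow hx, show m + 1 + n = m + n + 1 by omega,
          show n + 1 + m = m + n + 1 by omega,
          show (m + n + 1).choose (n + 1) = (m + n + 1).choose m from
            Nat.choose_symm_of_eq_add (by omega),
          show (m + n + 1 + 1).choose (m + 1) = (m + n + 1).choose m + (m + n + 1).choose (m + 1) from
            Nat.choose_succ_succ' _ _, Nat.cast_add]
        ring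
  dpow_comp {m n x} hn hx := by
    replace hx : x.fst ∈ J := hx
    obtain ⟨n, rfl⟩ := Nat.exists_eq_succ_of_ne_zero hn
    have hx' : (dualDpow δ (n + 1) x).fst ∈ J := by
      rw [fst_dualDpow δ hx]; exact δ.dpow_mem hn hx
    refine TrivSqZeroExt.ext ?_ ?_
    · rw [fst_dualDpow δ hx', fst_mul, fst_natCast, fst_dualDpow δ hx, fst_dualDpow δ hx,
        δ.dpow_comp hn hx]
    · rw [snd_mul', fst_natCast, snd_natCast, mul_zero, add_zero]
      rcases m with _ | m
      · simp [dualDpow_zero δ hx', dualDpow_zero δ hx]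
      · rw [snd_dualDpow_succ δ hx', fst_dualDpow δ hx, snd_dualDpow_succ δ hx, δ.dpow_comp hn hx,
          show (m + 1) * (n + 1) = (m * (n + 1) + n) + 1 by ring, snd_dualDpow_succ δ hx,
          Nat.uniformBell_succ_left, Nat.cast_mul, ← mul_assoc, mul_assoc (Nat.uniformBell _ _ : P),
          δ.mul_dpow hx]
        have hc : (m * (n + 1) + (n + 1) - 1).choose (n + 1 - 1) =
            (m * (n + 1) + n).choose (m * (n + 1)) := by
          rw [Nat.add_sub_cancel, show m * (n + 1) + (n + 1) - 1 = m * (n + 1) + n by omega,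
            Nat.choose_symm_add]
        rw [hc]
        ring

theorem dualDividedPowers_inl {x : P} (hx : x ∈ J) (n : ℕ) :
    (dualDividedPowers δ).dpow n (inl x) = inl (δ.dpow n x) := by
  have hx' : (inl x : TrivSqZeroExt P P).fst ∈ J := by rwa [fst_inl]
  refine TrivSqZeroExt.ext ?_ ?_
  · exact (fst_dualDpow δ hx' n).trans (by simp)
  · rcases n with _ | n
    · show (dualDpow δ 0 (inl x)).snd = _
      simp [dualDpow_zero δ hx', δ.dpow_zero hx]
    · show (dualDpow δ (n + 1) (inl x)).snd = _
      simp [snd_dualDpow_succ δ hx']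

theorem isDPMorphism_fst :
    (dualDividedPowers δ).IsDPMorphism δ (fstHom P P P).toRingHom :=
  ⟨Ideal.map_comap_le, fun a ha => (fst_dualDpow δ ha _).symm⟩

end Groth.Agent.DPow29
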