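import Mathlib.RingTheory.DividedPowers.DPMorphism
import Mathlib.LinearAlgebra.Basis.Basic
import Mathlib.Algebra.BigOperators.Finsupp.Basic

/-! Divided power monomials and the universal property of the divided power polynomial algebra. -/

set_option autoImplicit false

universe u v w z

namespace Groth.Agent.DPow29

variable {Λ : Type z}

/-- Product of binomial coefficients. -/
noncomputable def mchoose (e f : Λ →₀ ℕ) : ℕ :=
  (e + f).prod fun l k => k.choose (e l)

theorem monomial_mul {T : Type u} [CommRing T] (y : Λ → ℕ → T) (h0 : ∀ l, y l 0 = 1)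
    (hmul : ∀ l n m, y l n * y l m = ((n + m).choose n : T) * y l (n + m)) (e f : Λ →₀ ℕ) :
    e.prod (fun l k => y l k) * f.prod (fun l k => y l k) =
      (mchoose e f : T) * (e + f).prod (fun l k => y l k) := by
  classical
  have hsub : ∀ g : Λ →₀ ℕ, (∀ l, g l ≤ (e + f) l) → g.support ⊆ (e + f).support := fun g hg l hl => by
    have h1 := hg l
    rw [Finsupp.mem_support_iff] at hl ⊢
    omega
  rw [Finsupp.prod_of_support_subset e (hsub e fun l => by simp) _ (fun l _ => h0 l),
    Finsupp.prod_of_support_subset f (hsub f fun l => by simp) _ (fun l _ => h0 l),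
    mchoose, Finsupp.prod, Finsupp.prod, Nat.cast_prod, ← Finset.prod_mul_distrib,
    ← Finset.prod_mul_distrib]
  exact Finset.prod_congr rfl fun l _ => by rw [hmul, Finsupp.add_apply]

variable {R : Type u} [CommRing R] {P : Type v} [CommRing P] [Algebra R P] (x : Λ → ℕ → P)
  (hx0 : ∀ l, x l 0 = 1)
  (hxmul : ∀ l n m, x l n * x l m = ((n + m).choose n : P) * x l (n + m))
  (b : Module.Basis (Λ →₀ ℕ) R P) (hb : ∀ e : Λ →₀ ℕ, b e = e.prod (fun l k => x l k))

include hb hx0 in
theorem basis_single (l : Λ) (n : ℕ) : b (Finsupp.single l n) = x l n := by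
  rw [hb, Finsupp.prod_single_index (hx0 l)]

include hb hx0 in
theorem basis_zero : b 0 = 1 := by rw [hb, Finsupp.prod_zero_index]

include hx0 hxmul hb in
theorem exists_algHom {S : Type w} [CommRing S] [Algebra R S] (y : Λ → ℕ → S)
    (hy0 : ∀ l, y l 0 = 1)
    (hymul : ∀ l n m, y l n * y l m = ((n + m).choose n : S) * y l (n + m)) :
    ∃ φ : P →ₐ[R] S, ∀ l n, φ (x l n) = y l n := by
  let L : P →ₗ[R] S := b.constr ℕ fun e => e.prod fun l k => y l k
  have hL : ∀ e, L (b e) = e.prod fun l k => y l k := fun e => b.constr_basis ℕ _ e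
  have hbm : ∀ e f, L (b e * b f) = L (b e) * L (b f) := fun e f => by
    rw [hb e, hb f, monomial_mul x hx0 hxmul, ← hb (e + f), ← nsmul_eq_mul, map_nsmul, ← hb e,
      ← hb f, hL, hL, hL, monomial_mul y hy0 hymul, nsmul_eq_mul]
  have hmul : ∀ p q, L (p * q) = L p * L q := by
    intro p q
    have hp : p ∈ Submodule.span R (Set.range b) := b.mem_span p
    induction hp using Submodule.span_induction with
    | mem p hp =>
      obtain ⟨e, rfl⟩ := hp
      have hq : q ∈ Submodule.span R (Set.range b) := b.mem_span q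
      induction hq using Submodule.span_induction with
      | mem q hq => obtain ⟨f, rfl⟩ := hq; exact hbm e f
      | zero => simp
      | add p q _ _ h1 h2 => rw [mul_add, map_add, map_add, h1, h2, mul_add]
      | smul r p _ h1 => rw [mul_smul_comm, map_smul, map_smul, h1, mul_smul_comm]
    | zero => simp
    | add p q' _ _ h1 h2 => rw [add_mul, map_add, map_add, h1, h2, add_mul]
    | smul r p _ h1 => rw [smul_mul_assoc, map_smul, map_smul, h1, smul_mul_assoc]
  have h1 : L 1 = 1 := by rw [← basis_zero x hx0 b hb, hL, Finsupp.prod_zero_index]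
  refine ⟨AlgHom.ofLinearMap L h1 hmul, fun l n => ?_⟩
  show L (x l n) = y l n
  rw [← basis_single x hx0 b hb, hL, Finsupp.prod_single_index (hy0 l)]

include hb in
theorem algHom_ext {S : Type w} [CommRing S] [Algebra R S] {φ ψ : P →ₐ[R] S}
    (h : ∀ l n, φ (x l n) = ψ (x l n)) : φ = ψ := by
  refine AlgHom.toLinearMap_injective (b.ext fun e => ?_)
  show φ (b e) = ψ (b e)
  rw [hb, Finsupp.prod, map_prod, map_prod]
  exact Finset.prod_congr rfl fun l _ => h _ _

theorem mem_gens (l : Λ) {n : ℕ} (hn : 1 ≤ n) :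
    x l n ∈ Ideal.span {y : P | ∃ (l : Λ) (n : ℕ), 1 ≤ n ∧ y = x l n} :=
  Ideal.subset_span ⟨l, n, hn, rfl⟩

include hx0 hxmul hb in
theorem existsUnique_dpMorphism
    (γ : DividedPowers (Ideal.span {y : P | ∃ (l : Λ) (n : ℕ), 1 ≤ n ∧ y = x l n}))
    (hγ : ∀ l n, γ.dpow n (x l 1) = x l n)
    {S : Type w} [CommRing S] [Algebra R S] (J : Ideal S) (δ : DividedPowers J)
    (s : Λ → S) (hs : ∀ l, s l ∈ J) :
    ∃! φ : P →ₐ[R] S, γ.IsDPMorphism δ φ.toRingHom ∧ ∀ l, φ (x l 1) = s l := by
  obtain ⟨φ, hφ⟩ := exists_algHom x hx0 hxmul b hb (fun l n => δ.dpow n (s l))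
    (fun l => δ.dpow_zero (hs l)) fun l n m => δ.mul_dpow (hs l)
  have hφ1 : ∀ l, φ (x l 1) = s l := fun l => by rw [hφ]; exact δ.dpow_one (hs l)
  refine ⟨φ, ⟨DividedPowers.IsDPMorphism.on_span γ δ rfl ?_ ?_, hφ1⟩, ?_⟩
  · rintro _ ⟨l, n, hn, rfl⟩
    change φ (x l n) ∈ J
    rw [hφ]
    exact δ.dpow_mem (by omega) (hs l)
  · rintro m _ ⟨l, n, hn, rfl⟩
    change φ (γ.dpow m (x l n)) = δ.dpow m (φ (x l n))
    rw [← hγ l n, γ.dpow_comp (by omega) (mem_gens x l le_rfl), hγ, hγ, map_mul, map_natCast, hφ,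
      hφ, δ.dpow_comp (by omega) (hs l)]
  · rintro ψ ⟨hψ, hψ1⟩
    refine algHom_ext x b hb fun l n => ?_
    rw [hφ, ← hγ l n, ← hψ1 l]
    exact hψ.map_dpow (mem_gens x l le_rfl)

end Groth.Agent.DPow29
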