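import Mathlib.RingTheory.DividedPowers.Basic
import Mathlib.RingTheory.WittVector.Truncated
import Mathlib.RingTheory.WittVector.TeichmullerSeries
import Mathlib.RingTheory.WittVector.Identities
import Mathlib.Data.Nat.Choose.Dvd
import Mathlib.NumberTheory.Basic

/-! p-power congruences along a divided power ideal, and the ghost map on truncated Witt vectors. -/

set_option autoImplicit false

universe u v

namespace Groth.Agent.DPow29

variable {B : Type u} [CommRing B] {I : Ideal B} {p : ℕ} [Fact p.Prime]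

theorem pow_prime_pow_sub_mem (hI : DividedPowers I) (r : ℕ) (b δ : B) (hδ : δ ∈ I) :
    (b + δ) ^ (p ^ r) - b ^ (p ^ r) ∈ Ideal.span {((p : B) ^ r)} * I := by
  have hp : p.Prime := Fact.out
  induction r with
  | zero => simp [hδ]
  | succ r ih =>
    obtain ⟨e, he, he'⟩ := Ideal.mem_span_singleton_mul.mp ih
    rw [show p ^ (r + 1) = p ^ r * p from pow_succ p r, pow_mul, pow_mul, sub_eq_iff_eq_add'.mp he'.symm,
      pow_succ (p : B) r]
    obtain ⟨q, rfl⟩ : ∃ q, p = q + 1 := ⟨p - 1, (Nat.sub_add_cancel hp.one_le).symm⟩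
    generalize b ^ (q + 1) ^ r = x
    rw [add_pow, Finset.sum_range_succ, Nat.sub_self, pow_zero, mul_one, Nat.choose_self,
      Nat.cast_one, mul_one, add_sub_cancel_right]
    refine Ideal.sum_mem _ fun i hi => ?_
    rw [Finset.mem_range] at hi
    obtain ⟨k, hk⟩ : ∃ k, q + 1 - i = k + 1 := ⟨q - i, by omega⟩
    rw [hk]
    have hpe : (((q + 1 : ℕ) : B) ^ r * e) ^ (k + 1) =
        ((q + 1 : ℕ) : B) ^ r * (((q + 1 : ℕ) : B) ^ (r * k) * e ^ (k + 1)) := by
      rw [mul_pow, pow_succ (((q + 1 : ℕ) : B) ^ r), ← pow_mul]; ring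
    rw [hpe]
    refine Ideal.mem_span_singleton_mul.mpr ?_
    rcases Nat.eq_zero_or_pos i with rfl | hi0
    · have hk' : k = q := by omega
      subst hk'
      refine ⟨x ^ 0 * ((k + 1).choose 0 : B) * ((k + 1 : ℕ) : B) ^ (r * k) *
        ((k.factorial : B) * hI.dpow (k + 1) e),
        Ideal.mul_mem_left _ _ (Ideal.mul_mem_left _ _ (hI.dpow_mem (by omega) he)), ?_⟩
      rw [← hI.factorial_mul_dpow_eq_pow he, Nat.factorial_succ, Nat.cast_mul]
      ring
    · obtain ⟨c, hc⟩ := hp.dvd_choose_self (by omega : i ≠ 0) hi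
      refine ⟨x ^ i * (c : B) * (((q + 1 : ℕ) : B) ^ (r * k)) * e ^ (k + 1),
        Ideal.mul_mem_left _ _ (I.pow_mem_of_mem he _ (by omega)), ?_⟩
      rw [hc, Nat.cast_mul]
      ring

theorem ghostComponent_eq_sum_fin (n : ℕ) (hp : (p : B) ^ n = 0) (x : WittVector p B) :
    WittVector.ghostComponent n x = ∑ i : Fin n, (p : B) ^ (i : ℕ) * (x.coeff i) ^ (p ^ (n - i)) := by
  rw [WittVector.ghostComponent_apply, wittPolynomial_eq_sum_C_mul_X_pow, map_sum,
    Finset.sum_range_succ, Fin.sum_univ_eq_sum_range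
      (fun i => (p : B) ^ i * (x.coeff i) ^ (p ^ (n - i)))]
  simp [hp]

theorem exists_theta (hI : DividedPowers I) (n : ℕ) (hp : (p : B) ^ n = 0) :
    ∃ θ : TruncatedWittVector p n (B ⧸ I) →+* B, ∀ x : WittVector p B,
      θ (WittVector.truncate n (WittVector.map (Ideal.Quotient.mk I) x)) =
        ∑ i : Fin n, (p : B) ^ (i : ℕ) * (x.coeff i) ^ (p ^ (n - i)) := by
  let f : WittVector p B →+* TruncatedWittVector p n (B ⧸ I) :=
    (WittVector.truncate n).comp (WittVector.map (Ideal.Quotient.mk I))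
  have hf : Function.Surjective f := (WittVector.truncate_surjective p n (B ⧸ I)).comp
    (WittVector.map_surjective _ Ideal.Quotient.mk_surjective)
  have hker : RingHom.ker f ≤ RingHom.ker (WittVector.ghostComponent (p := p) (R := B) n) := by
    intro x hx
    rw [RingHom.mem_ker, RingHom.comp_apply, ← RingHom.mem_ker, WittVector.mem_ker_truncate] at hx
    rw [RingHom.mem_ker, ghostComponent_eq_sum_fin n hp]
    refine Finset.sum_eq_zero fun i _ => ?_
    have hi := hx i i.2
    rw [WittVector.map_coeff, Ideal.Quotient.eq_zero_iff_mem] at hi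
    have h := pow_prime_pow_sub_mem (p := p) hI (n - i) 0 _ hi
    rw [zero_add, zero_pow (pow_ne_zero _ (Fact.out : p.Prime).ne_zero), sub_zero,
      Ideal.mem_span_singleton_mul] at h
    obtain ⟨e, -, he⟩ := h
    rw [← he, ← mul_assoc, ← pow_add, Nat.add_sub_cancel' i.2.le, hp, zero_mul]
  refine ⟨f.liftOfSurjective hf ⟨WittVector.ghostComponent n, hker⟩, fun x => ?_⟩
  exact (f.liftOfRightInverse_comp_apply _ (Function.rightInverse_surjInv hf)
    ⟨WittVector.ghostComponent n, hker⟩ x).trans (ghostComponent_eq_sum_fin n hp x)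

theorem lift_of_truncated {n : ℕ} (a : TruncatedWittVector p n (B ⧸ I)) :
    ∃ x : WittVector p B, WittVector.truncate n (WittVector.map (Ideal.Quotient.mk I) x) = a :=
  ((WittVector.truncate_surjective p n (B ⧸ I)).comp
    (WittVector.map_surjective _ Ideal.Quotient.mk_surjective)) a

theorem theta_mk (n : ℕ) (hn : 0 < n)
    (θ : TruncatedWittVector p n (B ⧸ Ideal.span {(p : B)}) →+* B)
    (hθ : ∀ x : WittVector p B, θ (WittVector.truncate n (WittVector.map (Ideal.Quotient.mk (Ideal.span {(p : B)})) x)) =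
        ∑ i : Fin n, (p : B) ^ (i : ℕ) * (x.coeff i) ^ (p ^ (n - i)))
    (a : TruncatedWittVector p n (B ⧸ Ideal.span {(p : B)})) :
    Ideal.Quotient.mk (Ideal.span {(p : B)}) (θ a) =
      (TruncatedWittVector.coeff ⟨0, hn⟩ a) ^ (p ^ n) := by
  obtain ⟨x, rfl⟩ := lift_of_truncated a
  have hp0 : Ideal.Quotient.mk (Ideal.span {(p : B)}) (p : B) = 0 :=
    Ideal.Quotient.eq_zero_iff_mem.mpr (Ideal.mem_span_singleton_self _)
  rw [hθ, WittVector.coeff_truncate, WittVector.map_coeff, map_sum,
    Finset.sum_eq_single (⟨0, hn⟩ : Fin n)]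
  · simp
  · intro i _ hi
    rw [map_mul, map_pow, hp0, zero_pow (fun h => hi (Fin.ext h)), zero_mul]
  · simp

theorem theta_surjective (n : ℕ) (hp : (p : B) ^ n = 0)
    (hF : Function.Surjective (fun y : B ⧸ (Ideal.span {(p : B)}) => y ^ p))
    (θ : TruncatedWittVector p n (B ⧸ Ideal.span {(p : B)}) →+* B)
    (hθ : ∀ x : WittVector p B, θ (WittVector.truncate n (WittVector.map (Ideal.Quotient.mk (Ideal.span {(p : B)})) x)) =
        ∑ i : Fin n, (p : B) ^ (i : ℕ) * (x.coeff i) ^ (p ^ (n - i))) :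
    Function.Surjective θ := by
  rcases Nat.eq_zero_or_pos n with rfl | hn
  · intro b
    exact ⟨0, by rw [map_zero, ← mul_one b, ← pow_zero (p : B), hp, mul_zero]⟩
  have hFn : ∀ m, Function.Surjective (fun y : B ⧸ Ideal.span {(p : B)} => y ^ p ^ m) := by
    intro m
    induction m with
    | zero => exact fun y => ⟨y, by simp⟩
    | succ m ih =>
      intro y
      obtain ⟨z, hz⟩ := hF y
      obtain ⟨w, hw⟩ := ih z
      exact ⟨w, by simp only at hz hw ⊢; rw [pow_succ, pow_mul, hw, hz]⟩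
  have step : ∀ k, ∀ b : B, ∃ a r, b = θ a + (p : B) ^ k * r := by
    intro k
    induction k with
    | zero => exact fun b => ⟨0, b, by simp⟩
    | succ k ih =>
      intro b
      obtain ⟨a, r, rfl⟩ := ih b
      obtain ⟨y, hy⟩ := hFn n (Ideal.Quotient.mk _ r)
      obtain ⟨z, rfl⟩ := Ideal.Quotient.mk_surjective y
      set w := WittVector.truncate n (WittVector.map (Ideal.Quotient.mk (Ideal.span {(p : B)}))
        (WittVector.teichmuller p z)) with hw
      have hm : Ideal.Quotient.mk (Ideal.span {(p : B)}) (θ w) = Ideal.Quotient.mk _ r := by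
        rw [theta_mk n hn θ hθ, hw, WittVector.coeff_truncate, WittVector.map_coeff,
          WittVector.teichmuller_coeff_zero]
        exact hy
      obtain ⟨s, hs⟩ := Ideal.mem_span_singleton.mp (Ideal.Quotient.eq.mp hm.symm)
      refine ⟨a + (p : TruncatedWittVector p n (B ⧸ Ideal.span {(p : B)})) ^ k * w, s, ?_⟩
      rw [map_add, map_mul, map_pow, map_natCast, pow_succ]
      linear_combination (p : B) ^ k * hs
  intro b
  obtain ⟨a, r, rfl⟩ := step n b
  exact ⟨a, by rw [hp, zero_mul, add_zero]⟩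

end Groth.Agent.DPow29
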